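import Groth.Agent.Lib.FinBorel21.Descent
import Groth.Agent.Lib.BorelFix21.Image
import Groth.Agent.Lib.TorPts21.BorelCentre
import Groth.Agent.Lib.TorPts21.ImageTorus
import Groth.Agent.Lib.TorPts21.ConjSep
import Groth.Agent.Lib.TorPts21.Connected
import Groth.Agent.Lib.TorPts21.Chevalley

/-!
# Borel pairs over finite fields
-/

set_option autoImplicit false
set_option linter.style.haveILetI false
set_option backward.isDefEq.respectTransparency.types false
universe u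

open CategoryTheory CategoryTheory.Limits MonoidalCategory CartesianMonoidalCategory MonObj AlgebraicGeometry
open Groth.Agent.DiagGL

noncomputable section

namespace Groth.Agent.FinBorel21

attribute [local instance] InvRing21.gamAlg BorelFix21.ptsTop

theorem mono_of_ci {S : Scheme.{u}} {X Y : Over S} (f : X ⟶ Y) (hf : IsClosedImmersion f.left) : Mono f := by
  haveI := hf
  exact Over.mono_of_mono_left f

section Closed

variable {K : Type u} [Field K] {G : Over (Spec (CommRingCat.of K))} [GrpObj G]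

omit [GrpObj G] in
theorem conjBy_one {S : Scheme.{u}} {H G : Over S} [GrpObj G] (i : H ⟶ G) : AGF.conjBy 1 i = i := by
  rw [AGF.conjBy, MonObj.comp_one, inv_one, _root_.mul_one, _root_.one_mul]

/-- Borel subgroups are invariant under isomorphisms of the source. -/
theorem isBorelOver_iso {B B' : Over (Spec (CommRingCat.of K))} [GrpObj B] [GrpObj B'] {iB : B ⟶ G}
    (hB : Red.IsBorelOver K iB) (e : B' ≅ B) [IsMonHom e.hom] : Red.IsBorelOver K (e.hom ≫ iB) := by
  obtain ⟨hm, hc, hs, hn, hsol, hmax⟩ := hB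
  haveI := hm
  haveI := hc
  haveI := hs
  haveI := hn
  haveI : IsIso e.hom.left := inferInstanceAs (IsIso ((Over.forget _).map e.hom))
  haveI : IsMonHom e.inv := BorelFix21.isMonHom_of_comp e.hom e.inv (by rw [e.inv_hom_id]; infer_instance)
  haveI : Smooth B'.hom := by
    rw [← Over.w e.hom]
    exact inferInstanceAs (Smooth (e.hom.left ≫ B.hom))
  haveI : IsIso e.inv := e.isIso_inv
  refine ⟨inferInstance, inferInstanceAs (IsClosedImmersion (e.hom.left ≫ iB.left)), inferInstance,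
    (Scheme.homeoOfIso (asIso e.hom.left)).connectedSpace_iff.2 hn, BorelFix21.isSolvableGrp_of_isIso e.inv hsol,
    fun B'' _ i _ f h1 h2 h3 h4 h5 => ?_⟩
  haveI := hmax B'' i (e.inv ≫ f) h1 h2 h3 h4 (by rw [Category.assoc, h5, e.inv_hom_id_assoc])
  exact IsIso.of_isIso_comp_left e.inv f

variable [IsAlgClosed K]

/-- Maximal tori are invariant under isomorphisms of the source. -/
theorem isMaxTorus_iso {T T' : Over (Spec (CommRingCat.of K))} [GrpObj T] [GrpObj T'] {iT : T ⟶ G}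
    (hT : AGF.IsMaxTorus iT) (e : T' ≅ T) [IsMonHom e.hom] : AGF.IsMaxTorus (e.hom ≫ iT) := by
  obtain ⟨hm, hmono, htor, hmax⟩ := hT
  haveI := hm
  haveI := hmono
  obtain ⟨r, ⟨C⟩⟩ := TorPts21.exists_chars htor
  refine ⟨inferInstance, mono_comp _ _, TorPts21.isTorus_of_chars (C.transport (Grp.mkIso' e)),
    fun T'' _ j _ _ f hT'' h => ?_⟩
  haveI : IsIso e.inv := e.isIso_inv
  haveI := hmax T'' j (e.inv ≫ f) hT'' (by rw [Category.assoc, h, e.inv_hom_id_assoc])
  exact IsIso.of_isIso_comp_left e.inv f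

omit [IsAlgClosed K] in
/-- A maximal torus is maximal in every subgroup containing it. -/
theorem isMaxTorus_factor {T H : Over (Spec (CommRingCat.of K))} [GrpObj T] [GrpObj H] (iH : H ⟶ G) [IsMonHom iH]
    [Mono iH] (s : T ⟶ H) (hT : AGF.IsMaxTorus (s ≫ iH)) : AGF.IsMaxTorus s := by
  haveI := hT.1
  haveI := hT.2.1
  haveI : IsMonHom s := BorelFix21.isMonHom_of_comp iH s hT.1
  haveI : Mono s := mono_of_mono s iH
  exact ⟨inferInstance, inferInstance, hT.2.2.1, fun T' _ l _ _ f hT' hf =>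
    hT.2.2.2 T' (l ≫ iH) f hT' (by rw [← Category.assoc, hf])⟩

variable [IsAffine G.left] [Smooth G.hom] [ConnectedSpace G.left]

/-- Pairs of a Borel subgroup and a maximal torus in it are conjugate. -/
theorem exists_conj_pair {B B' T T' : Over (Spec (CommRingCat.of K))} [GrpObj B] [GrpObj B'] [GrpObj T] [GrpObj T']
    {iB : B ⟶ G} {iB' : B' ⟶ G} (hB : Red.IsBorelOver K iB) (hB' : Red.IsBorelOver K iB') (t : T ⟶ B)
    (hT : AGF.IsMaxTorus (t ≫ iB)) (t' : T' ⟶ B') (hT' : AGF.IsMaxTorus (t' ≫ iB')) :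
    ∃ (g : 𝟙_ (Over (Spec (CommRingCat.of K))) ⟶ G) (σ : B ≅ B') (τ : T ≅ T'),
      σ.hom ≫ iB' = AGF.conjBy g iB ∧ τ.hom ≫ t' ≫ iB' = AGF.conjBy g (t ≫ iB) := by
  obtain ⟨g₁, f, hf⟩ := BorelFix21.exists_conjBy iB iB' hB hB'
  obtain ⟨hm, hc, hs, hn, -, -⟩ := id hB
  obtain ⟨hm', hc', hs', hn', -, -⟩ := id hB'
  haveI := hm
  haveI := hm'
  haveI := hc'
  haveI := hs'
  haveI := hn'
  haveI : Mono iB' := Over.mono_of_mono_left iB'
  haveI : IsAffine B'.left := isAffine_of_isAffineHom iB'.left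
  haveI : IsMonHom f.hom := BorelFix21.isMonHom_of_comp iB' f.hom (by
    rw [hf]; exact TorPts21.isMonHom_conjBy g₁ iB)
  have e1 : (t ≫ f.hom) ≫ iB' = AGF.conjBy g₁ (t ≫ iB) := by
    rw [Category.assoc, hf, TorPts21.comp_conjBy]
  have h1 : AGF.IsMaxTorus (t ≫ f.hom) := isMaxTorus_factor iB' _ (by
    rw [e1]; exact TorPts21.isMaxTorus_conjBy hT g₁)
  obtain ⟨g₂, τ, hτ⟩ := TorPts21.exists_conj_maxTorus' h1 (isMaxTorus_factor iB' _ hT')
  have e2 : ∀ {W : Over (Spec (CommRingCat.of K))} (a : W ⟶ B') (h : 𝟙_ (Over (Spec (CommRingCat.of K))) ⟶ B'),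
      AGF.conjBy h a ≫ iB' = AGF.conjBy (h ≫ iB') (a ≫ iB') := fun a h => by
    simp only [AGF.conjBy, MonObj.mul_comp, GrpObj.inv_comp, Category.assoc]
  let σ₂ : B' ≅ B' := ⟨AGF.conjBy g₂ (𝟙 B'), AGF.conjBy g₂⁻¹ (𝟙 B'),
    by rw [TorPts21.comp_conjBy, Category.comp_id]
       show AGF.conjBy g₂⁻¹ (AGF.conjBy g₂ (𝟙 B')) = _
       rw [TorPts21.conjBy_conjBy, inv_mul_cancel, conjBy_one],
    by rw [TorPts21.comp_conjBy, Category.comp_id]
       show AGF.conjBy g₂ (AGF.conjBy g₂⁻¹ (𝟙 B')) = _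
       rw [TorPts21.conjBy_conjBy, mul_inv_cancel, conjBy_one]⟩
  refine ⟨(g₂ ≫ iB') * g₁, f ≪≫ σ₂, τ, ?_, ?_⟩
  · rw [Iso.trans_hom, Category.assoc, e2, Category.id_comp, TorPts21.comp_conjBy, hf,
      ← TorPts21.conjBy_conjBy]
  · rw [← Category.assoc, hτ, e2, e1, TorPts21.conjBy_conjBy]

end Closed

variable {k : Type u} [Field k] {K : Type u} [Field K] [Algebra k K]

/-- Factorisations through closed subschemes descend along field extensions. -/
theorem exists_fac {X H G : Over (Spec (CommRingCat.of k))} [IsReduced X.left] (i : H ⟶ G) [IsClosedImmersion i.left]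
    (a : X ⟶ G) (h : ∃ b, b ≫ (Over.pullback (str k K)).map i = (Over.pullback (str k K)).map a) :
    ∃ f : X ⟶ H, f ≫ i = a := by
  obtain ⟨b, hb⟩ := h
  haveI : Surjective (str k K) := ⟨fun p => ⟨IsLocalRing.closedPoint K, Subsingleton.elim (α := PrimeSpectrum k) _ _⟩⟩
  let π : (Red.bc (str k K) X).left ⟶ X.left := pullback.fst X.hom (str k K)
  haveI : Surjective π := MorphismProperty.pullback_fst _ _ ‹_›
  have hsub : Set.range a.left.base ⊆ Set.range i.left.base := by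
    rintro _ ⟨v, rfl⟩
    obtain ⟨w, rfl⟩ := π.surjective v
    have e1 : π ≫ a.left = b.left ≫ pullback.fst H.hom (str k K) ≫ i.left := by
      have e2 : ((Over.pullback (str k K)).map a).left ≫ pullback.fst G.hom (str k K) = π ≫ a.left :=
        pullback.lift_fst _ _ _
      have e3 : ((Over.pullback (str k K)).map i).left ≫ pullback.fst G.hom (str k K) =
          pullback.fst H.hom (str k K) ≫ i.left := pullback.lift_fst _ _ _
      rw [← e2, ← hb, Over.comp_left, Category.assoc, e3]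
    exact ⟨_, (congrArg (fun m => m.base w) e1).symm⟩
  obtain ⟨l, hl⟩ := RedSepLib.exists_lift_of_range_subset a.left i.left hsub
  exact ⟨Over.homMk l (by rw [← Over.w i, reassoc_of% hl, Over.w]), Over.OverMorphism.ext hl⟩

theorem map_conjBy {X G : Over (Spec (CommRingCat.of k))} [GrpObj G] (g₀ : 𝟙_ (Over (Spec (CommRingCat.of k))) ⟶ G)
    (g : KPt K G) (hg : ∀ {W : Over (Spec (CommRingCat.of K))}, fl (str k K) G (toUnit W ≫ g) = toUnit _ ≫ g₀)
    (a : X ⟶ G) :
    (Over.pullback (str k K)).map (AGF.conjBy g₀ a) = AGF.conjBy g ((Over.pullback (str k K)).map a) := by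
  refine fl_injective (str k K) G ?_
  rw [← Category.id_comp ((Over.pullback (str k K)).map (AGF.conjBy g₀ a)), TorPts21.fl_comp_map,
    TorPts21.comp_conjBy, AGF.conjBy, fl_mul, fl_mul, MTRigid29.fl_inv, hg,
    ← Category.id_comp ((Over.pullback (str k K)).map a), TorPts21.fl_comp_map]

theorem comp_frobMap {X G : Over (Spec (CommRingCat.of k))} [IsAffine G.left] {F : G ⟶ G} {F' : X ⟶ X}
    (hF : IsFrob F) (hF' : IsFrob F') (a : X ⟶ G) :
    (Over.pullback (str k K)).map a ≫ (Over.pullback (str k K)).map F =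
      (Over.pullback (str k K)).map F' ≫ (Over.pullback (str k K)).map a := by
  rw [← Functor.map_comp, ← Functor.map_comp, IsFrob.naturality hF' hF a]

theorem isBorelOver_congr {ψ ψ' : Spec (CommRingCat.of K) ⟶ Spec (CommRingCat.of k)} (h : ψ = ψ')
    {B G : Over (Spec (CommRingCat.of k))} [GrpObj B] [GrpObj G] {iB : B ⟶ G}
    (hB : Red.IsBorelOver K ((Over.pullback ψ).map iB)) : Red.IsBorelOver K ((Over.pullback ψ').map iB) := by
  subst h; exact hB

theorem isMaxTorus_congr {ψ ψ' : Spec (CommRingCat.of K) ⟶ Spec (CommRingCat.of k)} (h : ψ = ψ')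
    {T G : Over (Spec (CommRingCat.of k))} [GrpObj T] [GrpObj G] {iT : T ⟶ G}
    (hT : AGF.IsMaxTorus ((Over.pullback ψ).map iT)) : AGF.IsMaxTorus ((Over.pullback ψ').map iT) := by
  subst h; exact hT

variable [Finite k] [IsAlgClosed K] [Algebra.IsAlgebraic k K]

variable (K) in
set_option maxHeartbeats 1000000 in
/-- A connected smooth affine group over a finite field has a Borel pair. -/
theorem exists_pair (G : Over (Spec (CommRingCat.of k))) [GrpObj G] [IsAffine G.left] [Smooth G.hom]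
    [ConnectedSpace G.left] :
    ∃ (B : Over (Spec (CommRingCat.of k))) (_ : GrpObj B) (iB : B ⟶ G) (T : Over (Spec (CommRingCat.of k)))
      (_ : GrpObj T) (t : T ⟶ B) (_ : IsMonHom iB) (_ : IsMonHom (t ≫ iB)),
      IsClosedImmersion iB.left ∧ Smooth B.hom ∧ Mono (t ≫ iB) ∧ Red.IsTorus T ∧
        Red.IsBorelOver K ((Over.pullback (str k K)).map iB) ∧
        AGF.IsMaxTorus ((Over.pullback (str k K)).map (t ≫ iB)) := by
  let φ := str k K
  haveI : IsAffine (Red.bc φ G).left := BorelFix21.isAffine_bc φ G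
  haveI : Smooth (Red.bc φ G).hom := BorelFix21.smooth_bc φ G
  haveI : ConnectedSpace (Red.bc φ G).left := BorelFix21.connectedSpace_bc φ G
  obtain ⟨F, hFm, hF, hFs⟩ := exists_frob G
  haveI := hFm
  haveI := hFs
  let FK : Red.bc φ G ⟶ Red.bc φ G := (Over.pullback φ).map F
  haveI : Surjective FK.left := BorelFix21.surjective_bc φ F
  obtain ⟨B₀, _, b₀, hb₀, -⟩ := BorelFix21.exists_isBorelOver (Red.bc φ G)
  obtain ⟨hm, hc, hs, hn, -, -⟩ := id hb₀
  haveI := hm
  haveI := hc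
  haveI := hs
  haveI := hn
  haveI : IsAffine B₀.left := isAffine_of_isAffineHom b₀.left
  obtain ⟨T₀, _, iT, t₀, hT, ht⟩ := TorPts21.exists_maxTorus_le hb₀
  subst ht
  haveI := hT.1
  haveI := hT.2.1
  obtain ⟨hTa, hTs, -, -⟩ := TorPts21.props_of_isTorus hT.2.2.1
  haveI := hTa
  haveI := hTs
  obtain ⟨H, _, i, p, him, hic, hHr, hps, hp⟩ := BorelFix21.exists_image (b₀ ≫ FK)
  haveI := him
  haveI := hic
  haveI := hHr
  haveI := hps
  have hH : Red.IsBorelOver K i := BorelFix21.isBorelOver_image FK b₀ i p hp hb₀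
  obtain ⟨T₁, _, i₁, p₁, hi₁m, hi₁c, hT₁r, hp₁s, hp₁⟩ := BorelFix21.exists_image ((t₀ ≫ b₀) ≫ FK)
  haveI := hi₁m
  haveI := hi₁c
  haveI := hT₁r
  haveI := hp₁s
  have hT₁ : AGF.IsMaxTorus i₁ := TorPts21.isMaxTorus_image FK hT p₁ hp₁
  obtain ⟨hT₁a, hT₁s, -, -⟩ := TorPts21.props_of_isTorus hT₁.2.2.1
  haveI := hT₁a
  haveI := hT₁s
  obtain ⟨t₁, ht₁⟩ := TorPts21.exists_lift_of_pts i i₁ fun y => by
    obtain ⟨x, rfl⟩ := BorelFix21.exists_pt_lift p₁ y
    exact ⟨x ≫ t₀ ≫ p, by simp only [Category.assoc, hp, hp₁]⟩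
  subst ht₁
  obtain ⟨g, σ, τ, hσ, hτ⟩ := exists_conj_pair hb₀ hH t₀ hT t₁ hT₁
  obtain ⟨z, hz⟩ := exists_lang_kpt hF (g⁻¹ : KPt K G)
  let h : KPt K G := z⁻¹
  have hh : (h ≫ FK) * g = h := by
    have e : g = (z ≫ FK) * z⁻¹ := by
      rw [← inv_inj, ← hz]
      simp [FK, mul_inv_rev]
      rfl
    rw [show h ≫ FK = (z ≫ FK)⁻¹ from GrpObj.inv_comp _ _, e, inv_mul_cancel_left]
  have hstab : ∀ {V V₁ : Over (Spec (CommRingCat.of K))} (v : V ⟶ Red.bc φ G) (v₁ : V₁ ⟶ Red.bc φ G)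
      (q : V ⟶ V₁) (e : V ≅ V₁), q ≫ v₁ = v ≫ FK → e.hom ≫ v₁ = AGF.conjBy g v →
        ∀ x : 𝟙_ (Over (Spec (CommRingCat.of K))) ⟶ V,
          ∃ y, y ≫ AGF.conjBy h v = x ≫ AGF.conjBy h v ≫ FK := by
    intro V V₁ v v₁ q e hq he x
    have hu : ∀ a : 𝟙_ (Over (Spec (CommRingCat.of K))) ⟶ Red.bc φ G, toUnit _ ≫ a = a := fun a => by
      rw [toUnit_unique (toUnit _) (𝟙 _), Category.id_comp]
    refine ⟨(x ≫ q) ≫ e.inv, ?_⟩
    have e1 : x ≫ v ≫ FK = g * (((x ≫ q) ≫ e.inv) ≫ v) * g⁻¹ := by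
      rw [← hq, ← Category.assoc, ← e.inv_hom_id_assoc v₁, he, ← Category.assoc, TorPts21.comp_conjBy, hu]
    rw [TorPts21.comp_conjBy, hu, ← Category.assoc x, TorPts21.comp_conjBy, hu, MonObj.mul_comp, MonObj.mul_comp,
      GrpObj.inv_comp, Category.assoc x v FK, e1]
    calc h * (((x ≫ q) ≫ e.inv) ≫ v) * h⁻¹
        = ((h ≫ FK) * g) * (((x ≫ q) ≫ e.inv) ≫ v) * ((h ≫ FK) * g)⁻¹ := by rw [hh]
      _ = (h ≫ FK) * (g * (((x ≫ q) ≫ e.inv) ≫ v) * g⁻¹) * (h ≫ FK)⁻¹ := by group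
      _ = _ := by simp only [h, GrpObj.inv_comp]
  haveI : IsMonHom (AGF.conjBy h b₀) := TorPts21.isMonHom_conjBy h b₀
  haveI : IsClosedImmersion (AGF.conjBy h b₀).left := TorPts21.isClosedImmersion_conjBy h b₀
  have hV : Red.IsBorelOver K (AGF.conjBy h b₀) := by
    have := BorelFix21.isBorelOver_conj b₀ hb₀ h⁻¹
    rwa [GrpObj.comp_inv, inv_inv] at this
  haveI : IsMonHom (AGF.conjBy h (t₀ ≫ b₀)) := TorPts21.isMonHom_conjBy h _
  haveI : Mono (AGF.conjBy h (t₀ ≫ b₀)) := TorPts21.mono_conjBy h _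
  have hVT : AGF.IsMaxTorus (AGF.conjBy h (t₀ ≫ b₀)) := TorPts21.isMaxTorus_conjBy hT h
  haveI : IsClosedImmersion (t₀ ≫ b₀).left := TorPts21.isClosedImmersion_of_torus hT.2.2.1 (t₀ ≫ b₀)
  haveI : IsClosedImmersion (AGF.conjBy h (t₀ ≫ b₀)).left := TorPts21.isClosedImmersion_conjBy h _
  obtain ⟨B, _, iB, hBm, eB, hBc, hBs, heBm, heB⟩ := exists_descend hF (AGF.conjBy h b₀) (hstab b₀ i p σ hp hσ)
  obtain ⟨T, _, iT', hTm, eT, hTc, hTsm, heTm, heT⟩ := exists_descend hF (AGF.conjBy h (t₀ ≫ b₀))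
    (hstab (t₀ ≫ b₀) (t₁ ≫ i) p₁ τ hp₁ hτ)
  haveI := hBm
  haveI := hBc
  haveI := hTm
  haveI := hTc
  haveI := heBm
  haveI := heTm
  haveI := hTsm
  haveI : IsReduced T.left := OrbitTop19.isReduced_of_smooth T.hom
  obtain ⟨t, ht⟩ := exists_fac (K := K) iB iT' ⟨eT.hom ≫ t₀ ≫ eB.inv, by
    rw [← heT, ← heB, Category.assoc, Category.assoc, eB.inv_hom_id_assoc, TorPts21.comp_conjBy]⟩
  subst ht
  refine ⟨B, inferInstance, iB, T, inferInstance, t, inferInstance, inferInstance, inferInstance, hBs,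
    Over.mono_of_mono_left _, TorPts21.isTorus_of_bc φ ?_, ?_, ?_⟩
  · exact (isMaxTorus_iso hVT eT).2.2.1
  · rw [← heB]
    exact isBorelOver_iso hV eB
  · rw [← heT]
    exact isMaxTorus_iso hVT eT

variable {G : Over (Spec (CommRingCat.of k))} [GrpObj G] [IsAffine G.left] [Smooth G.hom] [ConnectedSpace G.left]

set_option maxHeartbeats 1000000 in
/-- The point moving one Borel pair to another may be chosen rational. -/
theorem exists_fixed_conj {B B' T T' : Over (Spec (CommRingCat.of k))} [GrpObj B] [GrpObj B'] [GrpObj T] [GrpObj T']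
    (iB : B ⟶ G) [IsMonHom iB] [IsClosedImmersion iB.left] [Smooth B.hom] (iB' : B' ⟶ G) [IsMonHom iB']
    [IsClosedImmersion iB'.left] [Smooth B'.hom] (t : T ⟶ B) (t' : T' ⟶ B') [IsMonHom t] (hTor : Red.IsTorus T)
    (hB : Red.IsBorelOver K ((Over.pullback (str k K)).map iB))
    (hB' : Red.IsBorelOver K ((Over.pullback (str k K)).map iB'))
    (hT : AGF.IsMaxTorus ((Over.pullback (str k K)).map (t ≫ iB)))
    (hT' : AGF.IsMaxTorus ((Over.pullback (str k K)).map (t' ≫ iB')))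
    (lemNorm : ∀ (n : KPt K G) (τ : Red.bc (str k K) T ≅ Red.bc (str k K) T)
      (_ : τ.hom ≫ (Over.pullback (str k K)).map (t ≫ iB) = AGF.conjBy n ((Over.pullback (str k K)).map (t ≫ iB)))
      (σ : Red.bc (str k K) B ≅ Red.bc (str k K) B)
      (_ : σ.hom ≫ (Over.pullback (str k K)).map iB = AGF.conjBy n ((Over.pullback (str k K)).map iB)),
      AGF.conjBy n ((Over.pullback (str k K)).map (t ≫ iB)) = (Over.pullback (str k K)).map (t ≫ iB)) :
    ∃ (g : KPt K G) (σ : Red.bc (str k K) B ≅ Red.bc (str k K) B') (τ : Red.bc (str k K) T ≅ Red.bc (str k K) T'),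
      (∀ F : G ⟶ G, IsFrob F → g ≫ (Over.pullback (str k K)).map F = g) ∧
      σ.hom ≫ (Over.pullback (str k K)).map iB' = AGF.conjBy g ((Over.pullback (str k K)).map iB) ∧
      τ.hom ≫ (Over.pullback (str k K)).map (t' ≫ iB') =
        AGF.conjBy g ((Over.pullback (str k K)).map (t ≫ iB)) := by
  let φ := str k K
  haveI : IsAffine (Red.bc φ G).left := BorelFix21.isAffine_bc φ G
  haveI : Smooth (Red.bc φ G).hom := BorelFix21.smooth_bc φ G
  haveI : ConnectedSpace (Red.bc φ G).left := BorelFix21.connectedSpace_bc φ G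
  have hmapT : (Over.pullback φ).map (t ≫ iB) = (Over.pullback φ).map t ≫ (Over.pullback φ).map iB :=
    Functor.map_comp _ _ _
  have hmapT' : (Over.pullback φ).map (t' ≫ iB') = (Over.pullback φ).map t' ≫ (Over.pullback φ).map iB' :=
    Functor.map_comp _ _ _
  obtain ⟨g, σ, τ, hσ, hτ⟩ := exists_conj_pair hB hB' ((Over.pullback φ).map t) (hmapT ▸ hT)
    ((Over.pullback φ).map t') (hmapT' ▸ hT')
  rw [← hmapT, ← hmapT'] at hτ
  obtain ⟨F, hFm, hF, -⟩ := exists_frob G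
  haveI := hFm
  let FK : Red.bc φ G ⟶ Red.bc φ G := (Over.pullback φ).map F
  let n : KPt K G := g⁻¹ * (g ≫ FK)
  have hu : ∀ a : 𝟙_ (Over (Spec (CommRingCat.of K))) ⟶ Red.bc φ G, toUnit _ ≫ a = a := fun a => by
    rw [toUnit_unique (toUnit _) (𝟙 _), Category.id_comp]
  haveI : IsAffine B.left := isAffine_of_isAffineHom iB.left
  haveI : IsAffine B'.left := isAffine_of_isAffineHom iB'.left
  obtain ⟨FB, -, hFB, hFBs⟩ := exists_frob B
  obtain ⟨FB', -, hFB', -⟩ := exists_frob B'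
  obtain ⟨FT, -, hFT, hFTs⟩ := exists_frob T
  obtain ⟨FT', -, hFT', -⟩ := exists_frob T'
  haveI := hFBs
  haveI := hFTs
  -- the normalising property of `n`
  have key : ∀ {V V' : Over (Spec (CommRingCat.of k))} [LocallyOfFiniteType V.hom] (v : V ⟶ G) (v' : V' ⟶ G)
      (FV : V ⟶ V) (FV' : V' ⟶ V') [Surjective FV.left],
      v ≫ F = FV ≫ v → v' ≫ F = FV' ≫ v' → ∀ (e : Red.bc φ V ≅ Red.bc φ V'),
        e.hom ≫ (Over.pullback φ).map v' = AGF.conjBy g ((Over.pullback φ).map v) →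
        ∀ p : VecGrp.pt K K ⟶ Red.bc φ V, ∃ q : VecGrp.pt K K ⟶ Red.bc φ V,
          TorPts21.gpt n * (p ≫ (Over.pullback φ).map v) * (TorPts21.gpt n)⁻¹ = q ≫ (Over.pullback φ).map v := by
    intro V V' _ v v' FV FV' _ hv hv' e he p
    haveI : LocallyOfFiniteType (Red.bc φ V).hom :=
      MorphismProperty.pullback_snd (P := @LocallyOfFiniteType) _ _ ‹_›
    haveI : Surjective ((Over.pullback φ).map FV).left := BorelFix21.surjective_bc φ FV
    obtain ⟨x, rfl⟩ := BorelFix21.exists_pt_lift ((Over.pullback φ).map FV) p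
    have hw : ∀ (W : Over (Spec (CommRingCat.of K))) (y : W ⟶ Red.bc φ V),
        ((y ≫ e.hom) ≫ (Over.pullback φ).map v') =
          (toUnit W ≫ g) * (y ≫ (Over.pullback φ).map v) * (toUnit W ≫ g)⁻¹ := fun W y => by
      rw [Category.assoc, he, TorPts21.comp_conjBy]
    refine ⟨((x ≫ e.hom) ≫ (Over.pullback φ).map FV') ≫ e.inv, ?_⟩
    set vK := (Over.pullback φ).map v
    set v'K := (Over.pullback φ).map v'
    have h1 := congrArg (· ≫ FK) (hw _ x)
    simp only [MonObj.mul_comp, GrpObj.inv_comp, Category.assoc] at h1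
    have h2 : vK ≫ FK = (Over.pullback φ).map FV ≫ vK := by
      simp only [vK, FK, ← Functor.map_comp, hv]
    have h3 : v'K ≫ FK = (Over.pullback φ).map FV' ≫ v'K := by
      simp only [v'K, FK, ← Functor.map_comp, hv']
    rw [h2, h3] at h1
    have h4 := hw _ (((x ≫ e.hom) ≫ (Over.pullback φ).map FV') ≫ e.inv)
    simp only [Category.assoc, e.inv_hom_id_assoc] at h4
    rw [h1] at h4
    simp only [TorPts21.gpt, n, MonObj.comp_mul, GrpObj.comp_inv, Category.assoc, mul_inv_rev, inv_inv]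
    calc _ = (toUnit (VecGrp.pt K K) ≫ g)⁻¹ * ((toUnit (VecGrp.pt K K) ≫ g ≫ FK) *
            (x ≫ (Over.pullback φ).map FV ≫ vK) * (toUnit (VecGrp.pt K K) ≫ g ≫ FK)⁻¹) *
            (toUnit (VecGrp.pt K K) ≫ g) := by group
      _ = _ := by rw [h4]; group
  haveI : LocallyOfFiniteType T.hom := (TorPts21.smooth_connected_of_isTorus hTor).1 |> fun h => by
    haveI := h; infer_instance
  obtain ⟨hBKm, hBKc, hBKs, hBKn, -, hmaxB⟩ := id hB
  haveI := hBKm
  haveI := hBKc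
  haveI := hBKs
  haveI := hBKn
  haveI : IsAffine (Red.bc φ B).left := BorelFix21.isAffine_bc φ B
  haveI := hT.1
  haveI := hT.2.1
  obtain ⟨hTKa, hTKs, -, -⟩ := TorPts21.props_of_isTorus hT.2.2.1
  haveI := hTKa
  haveI := hTKs
  haveI : IsClosedImmersion ((Over.pullback φ).map (t ≫ iB)).left :=
    TorPts21.isClosedImmersion_of_torus hT.2.2.1 _
  haveI : IsClosedImmersion ((Over.pullback φ).map iB).left := hBKc
  haveI : Mono ((Over.pullback φ).map iB) := mono_of_ci _ hBKc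
  obtain ⟨σ₀, hσ₀⟩ := TorPts21.exists_lift_of_pts ((Over.pullback φ).map iB) (AGF.conjBy n ((Over.pullback φ).map iB))
    fun p => by
      obtain ⟨q, hq⟩ := key iB iB' FB FB' (IsFrob.naturality hFB hF iB) (IsFrob.naturality hFB' hF iB') σ hσ p
      exact ⟨q, by rw [TorPts21.comp_conjBy]; exact hq.symm⟩
  obtain ⟨τ₀, hτ₀⟩ := TorPts21.exists_lift_of_pts ((Over.pullback φ).map (t ≫ iB))
    (AGF.conjBy n ((Over.pullback φ).map (t ≫ iB))) fun p => by
      obtain ⟨q, hq⟩ := key (t ≫ iB) (t' ≫ iB') FT FT' (IsFrob.naturality hFT hF _) (IsFrob.naturality hFT' hF _)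
        τ hτ p
      exact ⟨q, by rw [TorPts21.comp_conjBy]; exact hq.symm⟩
  haveI : IsIso σ₀ := by
    have hconj : Red.IsBorelOver K (AGF.conjBy n ((Over.pullback φ).map iB)) := by
      have := BorelFix21.isBorelOver_conj _ hB n⁻¹
      rwa [GrpObj.comp_inv, inv_inv] at this
    exact hconj.2.2.2.2.2 _ ((Over.pullback φ).map iB) σ₀ inferInstance inferInstance inferInstance hB.2.2.2.2.1 hσ₀
  haveI : IsIso τ₀ :=
    (TorPts21.isMaxTorus_conjBy hT n).2.2.2 _ ((Over.pullback φ).map (t ≫ iB)) τ₀ hT.2.2.1 hτ₀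
  have hfix := lemNorm n (asIso τ₀) hτ₀ (asIso σ₀) hσ₀
  -- `n` lies in the centraliser of the torus in the Borel subgroup
  obtain ⟨b, hb⟩ := TorPts21.exists_pt_borel_of_normalize hB (TorPts21.gpt n) fun p => by
    obtain ⟨q, hq⟩ := key iB iB' FB FB' (IsFrob.naturality hFB hF iB) (IsFrob.naturality hFB' hF iB') σ hσ p
    exact ⟨q, hq⟩
  obtain ⟨b₁, rfl⟩ := TorPts21.exists_gpt b
  have hb1 : b₁ ≫ (Over.pullback φ).map iB = n := gpt_injective (by
    rw [← hb]; simp only [TorPts21.gpt, Category.assoc]; rfl)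
  obtain ⟨C, _, c, hc, hcc, hCs⟩ := MTRigid29.exists_centralizer
    (MTRigid29.isMT_of_ft (TorPts21.isMultTypeFT_of_isTorus hTor)) ‹Smooth B.hom› inferInstance t
  haveI := hcc
  haveI := hCs
  haveI : ConnectedSpace B.left := by
    haveI : Surjective φ := ⟨fun p => ⟨IsLocalRing.closedPoint K, Subsingleton.elim (α := PrimeSpectrum k) _ _⟩⟩
    let π : (Red.bc φ B).left ⟶ B.left := pullback.fst B.hom φ
    haveI : Surjective π := MorphismProperty.pullback_fst _ _ ‹_›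
    exact π.surjective.connectedSpace π.continuous
  haveI : IsAffine C.left := isAffine_of_isAffineHom c.left
  haveI : ConnectedSpace C.left := TorPts21.connectedSpace_centralizer hTor hc
  obtain ⟨c₀, hc₀⟩ := TorPts21.exists_lift_centralizer_pt (TorPts21.isTorus_bc φ hTor)
    (TorPts21.isCentralizerOf_bc φ hc) b₁ fun x => by
      rw [← cancel_mono ((Over.pullback φ).map iB), MonObj.mul_comp, MonObj.mul_comp, hb, Category.assoc,
        ← hmapT]
      have h1 := congrArg (x ≫ ·) hfix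
      simp only [TorPts21.comp_conjBy] at h1
      exact mul_inv_eq_iff_eq_mul.1 h1
  obtain ⟨FC, -, hFC, -⟩ := exists_frob C
  obtain ⟨z, hz⟩ := exists_lang_kpt hFC c₀
  let cG : Red.bc φ C ⟶ Red.bc φ G := (Over.pullback φ).map (c ≫ iB)
  haveI : IsMonHom c := hc.1
  haveI : IsMonHom cG := inferInstanceAs (IsMonHom ((Over.pullback φ).map (c ≫ iB)))
  have hncG : n = (z ≫ cG) * ((z ≫ cG) ≫ FK)⁻¹ := by
    have h1 : cG ≫ FK = (Over.pullback φ).map FC ≫ cG := comp_frobMap hF hFC (c ≫ iB)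
    have h2 : n = (z * (z ≫ (Over.pullback φ).map FC)⁻¹) ≫ cG := by
      rw [hz, ← hb1, ← hc₀]
      simp only [cG, Functor.map_comp, Category.assoc]
    rw [h2, MonObj.mul_comp, GrpObj.inv_comp, Category.assoc, ← h1, Category.assoc]
  let g' : KPt K G := g * (z ≫ cG)
  have hg' : g' ≫ FK = g' := by
    show (g * (z ≫ cG)) ≫ FK = _
    have h1 : g ≫ FK = g * n := by simp [n]
    rw [MonObj.mul_comp, h1, hncG]
    group
    rfl
  refine ⟨g', ⟨AGF.conjBy (z ≫ (Over.pullback φ).map c) (𝟙 _), AGF.conjBy (z ≫ (Over.pullback φ).map c)⁻¹ (𝟙 _),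
    by rw [TorPts21.comp_conjBy, Category.comp_id]
       show AGF.conjBy _ (AGF.conjBy _ (𝟙 _)) = _
       rw [TorPts21.conjBy_conjBy, inv_mul_cancel, conjBy_one],
    by rw [TorPts21.comp_conjBy, Category.comp_id]
       show AGF.conjBy _ (AGF.conjBy _ (𝟙 _)) = _
       rw [TorPts21.conjBy_conjBy, mul_inv_cancel, conjBy_one]⟩ ≪≫ σ, τ, fun F' hF' => ?_, ?_, ?_⟩
  · rw [show F' = F from ?_]
    · exact hg'
    · have := IsFrob.naturality hF' hF (𝟙 G)
      simpa using this.symm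
  · rw [Iso.trans_hom, Category.assoc, hσ, TorPts21.comp_conjBy]
    show AGF.conjBy g (AGF.conjBy _ (𝟙 _) ≫ (Over.pullback φ).map iB) = _
    rw [show ∀ h : KPt K B, AGF.conjBy h (𝟙 _) ≫ (Over.pullback φ).map iB =
      AGF.conjBy (h ≫ (Over.pullback φ).map iB) ((Over.pullback φ).map iB) from fun h => by
        simp only [AGF.conjBy, MonObj.mul_comp, GrpObj.inv_comp, Category.assoc, Category.id_comp]
        rfl,
      TorPts21.conjBy_conjBy]
    simp only [g', cG, Functor.map_comp, Category.assoc]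
    rfl
  · rw [hτ]
    show _ = AGF.conjBy (g * (z ≫ cG)) _
    rw [← TorPts21.conjBy_conjBy]
    congr 1
    have h1 := TorPts21.centralizer_comm (TorPts21.isCentralizerOf_bc φ hc) (toUnit _ ≫ z) (𝟙 (Red.bc φ T))
    rw [Category.id_comp, Category.assoc] at h1
    have h2 := congrArg (· ≫ (Over.pullback φ).map iB) h1
    simp only [MonObj.mul_comp, Category.assoc] at h2
    rw [← hmapT, ← Functor.map_comp (Over.pullback φ) c iB] at h2
    show _ = (toUnit _ ≫ z ≫ cG) * _ * (toUnit _ ≫ z ≫ cG)⁻¹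
    rw [h2, mul_inv_cancel_right]

omit [Finite k] [IsAlgClosed K] [Algebra.IsAlgebraic k K] [IsAffine G.left] [Smooth G.hom] [ConnectedSpace G.left] in
/-- Morphisms carried into each other by a rational point give an isomorphism over the ground field. -/
theorem exists_iso_conj {B B' : Over (Spec (CommRingCat.of k))} (iB : B ⟶ G) [IsClosedImmersion iB.left]
    [IsReduced B.left] (iB' : B' ⟶ G) [IsClosedImmersion iB'.left] [IsReduced B'.left]
    (g₀ : 𝟙_ (Over (Spec (CommRingCat.of k))) ⟶ G) (g : KPt K G)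
    (hg : ∀ {W : Over (Spec (CommRingCat.of K))}, fl (str k K) G (toUnit W ≫ g) = toUnit _ ≫ g₀)
    (σ : Red.bc (str k K) B ≅ Red.bc (str k K) B')
    (hσ : σ.hom ≫ (Over.pullback (str k K)).map iB' = AGF.conjBy g ((Over.pullback (str k K)).map iB)) :
    ∃ f : B ≅ B', f.hom ≫ iB' = AGF.conjBy g₀ iB := by
  obtain ⟨f, hf⟩ := exists_fac (K := K) iB' (AGF.conjBy g₀ iB) ⟨σ.hom, by rw [hσ, map_conjBy g₀ g hg]⟩
  have hg' : ∀ {W : Over (Spec (CommRingCat.of K))}, fl (str k K) G (toUnit W ≫ g⁻¹) = toUnit _ ≫ g₀⁻¹ :=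
    fun {W} => by rw [GrpObj.comp_inv, MTRigid29.fl_inv, hg, GrpObj.comp_inv]
  obtain ⟨f', hf'⟩ := exists_fac (K := K) iB (AGF.conjBy g₀⁻¹ iB') ⟨σ.inv, by
    rw [map_conjBy g₀⁻¹ g⁻¹ hg']
    have h1 : (Over.pullback (str k K)).map iB' = σ.inv ≫ AGF.conjBy g ((Over.pullback (str k K)).map iB) := by
      rw [← hσ, σ.inv_hom_id_assoc]
    rw [h1, TorPts21.comp_conjBy]
    show _ = AGF.conjBy g⁻¹ (AGF.conjBy g (σ.inv ≫ _))
    rw [TorPts21.conjBy_conjBy, inv_mul_cancel, conjBy_one]⟩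
  haveI : Mono iB := Over.mono_of_mono_left iB
  haveI : Mono iB' := Over.mono_of_mono_left iB'
  refine ⟨⟨f, f', (cancel_mono iB).1 ?_, (cancel_mono iB').1 ?_⟩, hf⟩
  · rw [Category.assoc, hf', TorPts21.comp_conjBy, hf, Category.id_comp]
    show AGF.conjBy g₀⁻¹ (AGF.conjBy g₀ iB) = _
    rw [TorPts21.conjBy_conjBy, inv_mul_cancel, conjBy_one]
  · rw [Category.assoc, hf, TorPts21.comp_conjBy, hf', Category.id_comp]
    show AGF.conjBy g₀ (AGF.conjBy g₀⁻¹ iB') = _
    rw [TorPts21.conjBy_conjBy, mul_inv_cancel, conjBy_one]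

end Groth.Agent.FinBorel21
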