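import Groth.Agent.Lib.Lang21.Points
import Groth.Agent.Lib.FrobPull22.Exists
import Groth.Agent.Lib.TorPts21.FieldDescent
import Groth.Agent.Lib.Zeta25.FrobFix
import Mathlib.FieldTheory.Finite.GaloisField
import Mathlib.FieldTheory.Normal.Defs
import Mathlib.RingTheory.Jacobson.Ring

/-!
# Frobenius on geometric points of schemes over a finite field
-/

set_option autoImplicit false
set_option linter.style.haveILetI false
set_option backward.isDefEq.respectTransparency.types false
universe u

open CategoryTheory CategoryTheory.Limits MonoidalCategory CartesianMonoidalCategory MonObj AlgebraicGeometry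
open Groth.Agent.DiagGL

noncomputable section

namespace Groth.Agent.FinBorel21

attribute [local instance] InvRing21.gamAlg BorelFix21.ptsTop

variable {k : Type u} [Field k] {K : Type u} [Field K] [Algebra k K]

variable (k K) in
/-- The map of spectra of a field extension. -/
abbrev str : Spec (CommRingCat.of K) ⟶ Spec (CommRingCat.of k) := Spec.map (CommRingCat.ofHom (algebraMap k K))

variable (K) in
/-- `K`-points of the base change. -/
abbrev KPt (X : Over (Spec (CommRingCat.of k))) := 𝟙_ (Over (Spec (CommRingCat.of K))) ⟶ Red.bc (str k K) X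

variable (k K) in
/-- The tautological point. -/
def ptTaut : VecGrp.pt k K ⟶ (Over.map (str k K)).obj (𝟙_ (Over (Spec (CommRingCat.of K)))) :=
  Over.homMk (𝟙 _) (by
    show 𝟙 _ ≫ 𝟙 _ ≫ str k K = Spec.map _
    rw [Category.id_comp, Category.id_comp])

/-- A point of the base change as a point over `k`. -/
def toK {X : Over (Spec (CommRingCat.of k))} (x : KPt K X) : VecGrp.pt k K ⟶ X := ptTaut k K ≫ fl (str k K) X x

theorem toK_left {X : Over (Spec (CommRingCat.of k))} (x : KPt K X) :
    (toK x).left = x.left ≫ pullback.fst X.hom (str k K) := Category.id_comp _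

theorem toK_comp {X Y : Over (Spec (CommRingCat.of k))} (x : KPt K X) (f : X ⟶ Y) :
    toK (x ≫ (Over.pullback (str k K)).map f) = toK x ≫ f := by
  rw [toK, TorPts21.fl_comp_map, toK, Category.assoc]

theorem toK_injective (X : Over (Spec (CommRingCat.of k))) :
    Function.Injective (toK : KPt K X → _) := fun x y h => by
  refine Over.OverMorphism.ext (pullback.hom_ext ?_ ?_)
  · exact ((toK_left x).symm.trans (congrArg Over.Hom.left h)).trans (toK_left y)
  · exact (Over.w x).trans (Over.w y).symm

theorem toK_surjective (X : Over (Spec (CommRingCat.of k))) :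
    Function.Surjective (toK : KPt K X → _) := fun p => by
  refine ⟨Over.homMk (pullback.lift p.left (𝟙 _) (by rw [Category.id_comp]; exact Over.w p))
    (pullback.lift_snd _ _ _), Over.OverMorphism.ext ?_⟩
  rw [toK_left]
  exact pullback.lift_fst _ _ _

theorem toK_mul {X : Over (Spec (CommRingCat.of k))} [GrpObj X] (x y : KPt K X) : toK (x * y) = toK x * toK y := by
  rw [toK, fl_mul, MonObj.comp_mul, toK, toK]

theorem toK_inv {X : Over (Spec (CommRingCat.of k))} [GrpObj X] (x : KPt K X) : toK x⁻¹ = (toK x)⁻¹ := by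
  rw [toK, MTRigid29.fl_inv, GrpObj.comp_inv, toK]

/-- The point of `X` under a `K`-point. -/
def pimg {X : Over (Spec (CommRingCat.of k))} (x : KPt K X) : X.left :=
  (toK x).left.base (IsLocalRing.closedPoint K)

theorem pimg_comp {X Y : Over (Spec (CommRingCat.of k))} (x : KPt K X) (f : X ⟶ Y) :
    pimg (x ≫ (Over.pullback (str k K)).map f) = f.left.base (pimg x) := by
  rw [pimg, toK_comp]
  rfl

theorem pimg_eq {X : Over (Spec (CommRingCat.of k))} (x : KPt K X) :
    pimg x = (pullback.fst X.hom (str k K)).base (x.left.base (IsLocalRing.closedPoint K)) := by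
  rw [pimg, toK_left]
  rfl

/-- The field extension is universally closed when it is algebraic. -/
theorem isIntegralHom_str [Algebra.IsAlgebraic k K] : IsIntegralHom (str k K) := by
  rw [IsIntegralHom.SpecMap_iff]
  exact fun c => Algebra.IsIntegral.isIntegral c

/-- Every closed point lies under a point over an algebraically closed algebraic extension. -/
theorem exists_kpt [Algebra.IsAlgebraic k K] [IsAlgClosed K] {X : Over (Spec (CommRingCat.of k))}
    [LocallyOfFiniteType X.hom] {Z : Set X.left} (hZ : IsLocallyClosed Z) (hne : Z.Nonempty) :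
    ∃ x : KPt K X, pimg x ∈ Z := by
  haveI : Surjective (str k K) := ⟨fun p => ⟨IsLocalRing.closedPoint K, Subsingleton.elim (α := PrimeSpectrum k) _ _⟩⟩
  haveI : LocallyOfFiniteType (Red.bc (str k K) X).hom :=
    MorphismProperty.pullback_snd (P := @LocallyOfFiniteType) _ _ ‹_›
  let π : (Red.bc (str k K) X).left ⟶ X.left := pullback.fst X.hom (str k K)
  haveI : Surjective π := MorphismProperty.pullback_fst _ _ ‹_›
  obtain ⟨z, hz⟩ := hne
  obtain ⟨w, rfl⟩ := π.surjective z
  obtain ⟨p, hp⟩ := BorelFix21.exists_pt_mem (G := Red.bc (str k K) X) (hZ.preimage π.continuous) ⟨w, hz⟩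
  obtain ⟨x, rfl⟩ := TorPts21.exists_gpt p
  refine ⟨x, ?_⟩
  rw [pimg_eq]
  have e : (TorPts21.gpt x).left = x.left := by
    show (toUnit (VecGrp.pt K K)).left ≫ x.left = x.left
    rw [show (toUnit (VecGrp.pt K K)).left = 𝟙 _ from ?_, Category.id_comp]
    refine (Category.comp_id _).symm.trans ((Over.w (toUnit (VecGrp.pt K K))).trans ?_)
    show Spec.map (CommRingCat.ofHom (algebraMap K K)) = 𝟙 _
    rw [show CommRingCat.ofHom (algebraMap K K) = 𝟙 _ from rfl, Spec.map_id]
  have h2 : π.base ((TorPts21.gpt x).left.base (IsLocalRing.closedPoint K)) ∈ Z := hp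
  rwa [e] at h2

/-! ### The Frobenius -/

/-- The relative Frobenius of an affine scheme over a finite field, on functions. -/
def IsFrob {X : Over (Spec (CommRingCat.of k))} (F : X ⟶ X) : Prop :=
  ∀ s : Γ(X.left, ⊤), F.left.appTop s = s ^ Nat.card k

theorem exists_frob [Finite k] (X : Over (Spec (CommRingCat.of k))) [GrpObj X] :
    ∃ F : X ⟶ X, IsMonHom F ∧ IsFrob F ∧ Surjective F.left := by
  obtain ⟨F, hm, hb, hle, hF⟩ := FrobPull22.exists_frobenius k X
  refine ⟨F, hm, fun s => ?_, ⟨fun z => ⟨z, by rw [hb]; rfl⟩⟩⟩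
  rw [← hF ⊤ s, Scheme.Hom.appLE]
  simp [Scheme.Hom.appTop]

/-- The Frobenius is natural. -/
theorem IsFrob.naturality {X Y : Over (Spec (CommRingCat.of k))} [IsAffine Y.left] {F : X ⟶ X} {F' : Y ⟶ Y}
    (hF : IsFrob F) (hF' : IsFrob F') (c : X ⟶ Y) : c ≫ F' = F ≫ c := by
  refine Over.OverMorphism.ext (ext_of_isAffine ?_)
  ext s
  rw [Over.comp_left, Over.comp_left, Scheme.Hom.comp_appTop, Scheme.Hom.comp_appTop]
  show c.left.appTop (F'.left.appTop s) = F.left.appTop (c.left.appTop s)
  rw [hF', hF, map_pow]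

theorem val_frob {X : Over (Spec (CommRingCat.of k))} {F : X ⟶ X} (hF : IsFrob F) {B : Type u} [CommRing B]
    [Algebra k B] (p : VecGrp.pt k B ⟶ X) (f : Γ(X.left, ⊤)) :
    InvRing21.val (p ≫ F) f = InvRing21.val p f ^ Nat.card k := by
  rw [← InvRing21.appTop_val, hF, map_pow]

/-- A value vanishes exactly off the basic open subset. -/
theorem val_eq_zero_iff {X : Over (Spec (CommRingCat.of k))} (p : VecGrp.pt k K ⟶ X) (f : Γ(X.left, ⊤)) :
    InvRing21.val p f = 0 ↔ p.left.base (IsLocalRing.closedPoint K) ∉ X.left.basicOpen f := by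
  have hbij : Function.Bijective (InvRing21.ptHom (k := k) K) :=
    (Scheme.ΓSpecIso (CommRingCat.of K)).commRingCatIsoToRingEquiv.bijective
  have e : p.left ⁻¹ᵁ X.left.basicOpen f = (VecGrp.pt k K).left.basicOpen (p.left.appTop f) :=
    Scheme.preimage_basicOpen_top _ _
  constructor
  · intro h hmem
    have h0 : p.left.appTop f = 0 := hbij.1 (h.trans (map_zero _).symm)
    have hm : IsLocalRing.closedPoint K ∈ p.left ⁻¹ᵁ X.left.basicOpen f := hmem
    rw [e, h0, Scheme.basicOpen_zero] at hm
    exact hm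
  · intro h
    by_contra h0
    have hu : IsUnit (p.left.appTop f) := by
      have h1 : IsUnit (InvRing21.ptHom (k := k) K (p.left.appTop f)) := isUnit_iff_ne_zero.2 h0
      have h2 := h1.map (RingEquiv.ofBijective _ hbij).symm
      rwa [show (RingEquiv.ofBijective _ hbij).symm (InvRing21.ptHom (k := k) K (p.left.appTop f)) =
        p.left.appTop f from (RingEquiv.ofBijective _ hbij).symm_apply_apply _] at h2
    refine h (show IsLocalRing.closedPoint K ∈ p.left ⁻¹ᵁ X.left.basicOpen f from ?_)
    rw [e, Scheme.basicOpen_of_isUnit _ hu]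
    trivial

variable [Finite k] [Algebra.IsAlgebraic k K]

/-- Two algebraic points over the same point differ by a power of the Frobenius. -/
theorem exists_val_eq_pow {X : Over (Spec (CommRingCat.of k))} [IsAffine X.left] [LocallyOfFiniteType X.hom]
    (p q : VecGrp.pt k K ⟶ X)
    (h : p.left.base (IsLocalRing.closedPoint K) = q.left.base (IsLocalRing.closedPoint K)) :
    ∃ n : ℕ, ∀ f : Γ(X.left, ⊤), InvRing21.val p f = InvRing21.val q f ^ Nat.card k ^ n := by
  haveI := InvRing21.finiteType_gam X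
  let χ := InvRing21.val q
  let ξ := InvRing21.val p
  let m : Ideal Γ(X.left, ⊤) := RingHom.ker χ
  have hinj : Function.Injective (Ideal.kerLiftAlg χ) := Ideal.kerLiftAlg_injective χ
  haveI : IsDomain (Γ(X.left, ⊤) ⧸ m) := hinj.isDomain _
  haveI : Algebra.IsIntegral k (Γ(X.left, ⊤) ⧸ m) := Algebra.IsIntegral.of_injective (Ideal.kerLiftAlg χ) hinj
  haveI : m.IsMaximal := Ideal.Quotient.maximal_of_isField _
    (isField_of_isIntegral_of_isField' (Field.toIsField k))
  letI : Field (Γ(X.left, ⊤) ⧸ m) := Ideal.Quotient.field m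
  haveI : Module.Finite k (Γ(X.left, ⊤) ⧸ m) := Algebra.IsIntegral.finite
  haveI : Finite (Γ(X.left, ⊤) ⧸ m) := Module.finite_of_finite k
  have hm : ∀ f ∈ m, ξ f = 0 := fun f hf => by
    rw [val_eq_zero_iff, h, ← val_eq_zero_iff]
    exact hf
  let L := Γ(X.left, ⊤) ⧸ m
  letI : Algebra L K := (Ideal.kerLiftAlg χ).toRingHom.toAlgebra
  haveI : IsScalarTower k L K := IsScalarTower.of_algebraMap_eq fun c => ((Ideal.kerLiftAlg χ).commutes c).symm
  let ρ : L →ₐ[k] K := Ideal.Quotient.liftₐ m ξ hm
  let τ : L ≃ₐ[k] L := Normal.algHomEquivAut k K L ρ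
  have hτ : ∀ a, algebraMap L K (τ a) = ρ a := fun a => by
    have := AlgHom.congr_fun ((Normal.algHomEquivAut k K L).symm_apply_apply ρ) a
    exact this
  letI := Fintype.ofFinite k
  obtain ⟨n, hn⟩ := (FiniteField.bijective_frobeniusAlgEquivOfAlgebraic_pow k L).2 τ
  refine ⟨n.1, fun f => ?_⟩
  have h1 : τ (Ideal.Quotient.mk m f) = (Ideal.Quotient.mk m f) ^ Fintype.card k ^ n.1 := by
    rw [← hn]
    simp only [AlgEquiv.coe_pow, FiniteField.coe_frobeniusAlgEquivOfAlgebraic_iterate]
  have h2 := hτ (Ideal.Quotient.mk m f)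
  rw [h1, map_pow, ← Nat.card_eq_fintype_card] at h2
  exact h2.symm

/-- Points over the same point are conjugate under the Frobenius. -/
theorem mem_of_pimg_eq {X : Over (Spec (CommRingCat.of k))} [IsAffine X.left] [LocallyOfFiniteType X.hom]
    {F : X ⟶ X} (hF : IsFrob F) (S : Set (KPt K X))
    (hS : ∀ x ∈ S, x ≫ (Over.pullback (str k K)).map F ∈ S) {x y : KPt K X} (hy : y ∈ S) (h : pimg x = pimg y) :
    x ∈ S := by
  obtain ⟨n, hn⟩ := exists_val_eq_pow (toK x) (toK y) h
  have key : ∀ m, ∃ z ∈ S, ∀ f, InvRing21.val (toK z) f = InvRing21.val (toK y) f ^ Nat.card k ^ m := by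
    intro m
    induction m with
    | zero => exact ⟨y, hy, fun f => by rw [pow_zero, pow_one]⟩
    | succ m ih =>
      obtain ⟨z, hz, hv⟩ := ih
      refine ⟨_, hS z hz, fun f => ?_⟩
      rw [toK_comp, val_frob hF, hv, ← pow_mul, ← pow_succ]
  obtain ⟨z, hz, hv⟩ := key n
  have e : toK x = toK z := Lang21.pt_ext (AlgHom.ext fun f => by rw [hn, hv])
  rwa [toK_injective X e]

omit [Algebra.IsAlgebraic k K] in
/-- A point fixed by the Frobenius is rational. -/
theorem exists_rational_of_fixed {X : Over (Spec (CommRingCat.of k))} [GrpObj X] [IsAffine X.left] {F : X ⟶ X} (hF : IsFrob F)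
    (x : KPt K X) (hx : x ≫ (Over.pullback (str k K)).map F = x) :
    ∃ g : 𝟙_ (Over (Spec (CommRingCat.of k))) ⟶ X, ∀ {W : Over (Spec (CommRingCat.of K))},
      fl (str k K) X (toUnit W ≫ x) = toUnit _ ≫ g := by
  let χ := InvRing21.val (toK x)
  have hr : ∀ f, χ f ∈ (Algebra.ofId k K).range := fun f => by
    have h1 : InvRing21.val (toK x) f ^ Nat.card k = InvRing21.val (toK x) f := by
      rw [← val_frob hF, ← toK_comp, hx]
    exact Zeta25.Geom.mem_range_of_pow_card_eq k K _ h1
  let e : k ≃ₐ[k] (Algebra.ofId k K).range := AlgEquiv.ofInjective (Algebra.ofId k K) (algebraMap k K).injective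
  let χ₀ : Γ(X.left, ⊤) →ₐ[k] k := e.symm.toAlgHom.comp (χ.codRestrict _ hr)
  have hχ : (Algebra.ofId k K).comp χ₀ = χ := AlgHom.ext fun f => by
    show ((e (e.symm (χ.codRestrict _ hr f))) : K) = χ f
    rw [AlgEquiv.apply_symm_apply]
    rfl
  let g₀ : VecGrp.pt k k ⟶ X := VecGrp.ptMap χ₀ ≫ InvRing21.uPt X
  have hg : toK x = VecGrp.ptMap (Algebra.ofId k K) ≫ g₀ := Lang21.pt_ext (by
    rw [InvRing21.val_ptMap, InvRing21.val_ptMap, InvRing21.val_uPt, AlgHom.comp_id, hχ])
  obtain ⟨g, hg'⟩ := TorPts21.exists_gpt g₀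
  refine ⟨g, fun {W} => ?_⟩
  rw [fl_comp]
  have e1 : fl (str k K) X x = toUnit _ ≫ g := by
    refine Over.OverMorphism.ext ?_
    have h1 := congrArg Over.Hom.left hg
    rw [← hg', TorPts21.gpt] at h1
    refine ((toK_left x).symm.trans h1).trans ?_
    show (VecGrp.ptMap (Algebra.ofId k K)).left ≫ (toUnit (VecGrp.pt k k)).left ≫ g.left = _
    rw [← Category.assoc]
    congr 1
    have e2 := Over.w (toUnit (VecGrp.pt k k))
    rw [show (𝟙_ (Over (Spec (CommRingCat.of k)))).hom = 𝟙 _ from rfl, Category.comp_id] at e2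
    rw [e2]
    exact (Over.w (VecGrp.ptMap (Algebra.ofId k K))).trans ((Category.id_comp _).symm)
  rw [e1, ← Category.assoc, comp_toUnit]

omit [Algebra.IsAlgebraic k K] in
/-- Lang's theorem for points of the base change. -/
theorem exists_lang_kpt [IsAlgClosed K] {X : Over (Spec (CommRingCat.of k))} [GrpObj X] [IsAffine X.left]
    [Smooth X.hom] [ConnectedSpace X.left] {F : X ⟶ X} (hF : IsFrob F) (a : KPt K X) :
    ∃ z : KPt K X, z * (z ≫ (Over.pullback (str k K)).map F)⁻¹ = a := by
  obtain ⟨p, hp⟩ := Lang21.exists_lang F hF K (toK a)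
  obtain ⟨z, rfl⟩ := toK_surjective X p
  exact ⟨z, toK_injective X (by rw [toK_mul, toK_inv, toK_comp, hp])⟩

omit [Finite k] in
/-- The geometric points of the spectrum of a field are algebraic. -/
theorem exists_geomAlg (s : ↥(Spec (CommRingCat.of k))) :
    ∃ _ : Algebra k (AlgebraicClosure ((Spec (CommRingCat.of k)).residueField s)),
      Algebra.IsAlgebraic k (AlgebraicClosure ((Spec (CommRingCat.of k)).residueField s)) ∧
        Red.geomPt s = str k (AlgebraicClosure ((Spec (CommRingCat.of k)).residueField s)) := by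
  let κ := (Spec (CommRingCat.of k)).residueField s
  haveI : IsIso ((Spec (CommRingCat.of k)).fromSpecResidueField s) := by
    haveI : IsClosedImmersion ((Spec (CommRingCat.of k)).fromSpecResidueField s) :=
      IsClosedImmersion.of_isPreimmersion _ (by
        rw [Scheme.range_fromSpecResidueField]
        exact (Set.subsingleton_singleton).isClosed)
    haveI : Surjective ((Spec (CommRingCat.of k)).fromSpecResidueField s) :=
      ⟨fun y => ⟨IsLocalRing.closedPoint _, Subsingleton.elim (α := PrimeSpectrum k) _ _⟩⟩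
    exact isIso_of_isClosedImmersion_of_surjective _
  obtain ⟨r, hr⟩ := Spec.map_surjective ((Spec (CommRingCat.of k)).fromSpecResidueField s)
  haveI : IsIso (Spec.map r) := hr ▸ inferInstance
  haveI : IsIso r := (isIso_iff_of_reflects_iso r.op Scheme.Spec).1 ‹_› |> fun h => (isIso_op_iff r).1 h
  letI alg : Algebra k κ := r.hom.toAlgebra
  haveI : Algebra.IsAlgebraic k κ := by
    haveI : Algebra.IsIntegral k κ := ⟨fun c => by
      obtain ⟨a, rfl⟩ := (ConcreteCategory.bijective_of_isIso r).2 c
      exact isIntegral_algebraMap⟩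
    infer_instance
  refine ⟨inferInstance, Algebra.IsAlgebraic.trans k κ (AlgebraicClosure κ), ?_⟩
  show Spec.map _ ≫ (Spec (CommRingCat.of k)).fromSpecResidueField s = _
  rw [← hr, ← Spec.map_comp]
  rfl

end Groth.Agent.FinBorel21
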