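import Groth.Agent.Lib.FinBorel21.Frob
import Groth.Agent.Lib.TorPts21.SubOfPts
import Groth.Agent.Lib.RedSep.Basic

/-!
# Frobenius stable subgroups descend to the finite field
-/

set_option autoImplicit false
set_option linter.style.haveILetI false
set_option backward.isDefEq.respectTransparency.types false
universe u

open CategoryTheory CategoryTheory.Limits MonoidalCategory CartesianMonoidalCategory MonObj AlgebraicGeometry
open Groth.Agent.DiagGL

noncomputable section

namespace Groth.Agent.FinBorel21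

attribute [local instance] InvRing21.gamAlg BorelFix21.ptsTop

variable {k : Type u} [Field k] {K : Type u} [Field K] [Algebra k K]

theorem comp_map_mul {X G : Over (Spec (CommRingCat.of k))} [GrpObj G] (x : KPt K X) (a b : X ⟶ G) :
    x ≫ (Over.pullback (str k K)).map (a * b) =
      (x ≫ (Over.pullback (str k K)).map a) * (x ≫ (Over.pullback (str k K)).map b) :=
  toK_injective G (by rw [toK_mul, toK_comp, toK_comp, toK_comp, MonObj.comp_mul])

theorem toK_one {G : Over (Spec (CommRingCat.of k))} [GrpObj G] : toK (1 : KPt K G) = 1 := by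
  have h := toK_mul (1 : KPt K G) 1
  rw [_root_.one_mul] at h
  exact left_eq_mul.1 h

theorem comp_map_one {X G : Over (Spec (CommRingCat.of k))} [GrpObj G] (x : KPt K X) :
    x ≫ (Over.pullback (str k K)).map (1 : X ⟶ G) = 1 :=
  toK_injective G (by rw [toK_comp, toK_one, MonObj.comp_one])

theorem comp_map_inv {X G : Over (Spec (CommRingCat.of k))} [GrpObj G] (x : KPt K X) (a : X ⟶ G) :
    x ≫ (Over.pullback (str k K)).map a⁻¹ = (x ≫ (Over.pullback (str k K)).map a)⁻¹ :=
  toK_injective G (by rw [toK_inv, toK_comp, toK_comp, GrpObj.comp_inv])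

theorem gpt_left {G : Over (Spec (CommRingCat.of K))} (x : 𝟙_ (Over (Spec (CommRingCat.of K))) ⟶ G) :
    (TorPts21.gpt x).left = x.left := by
  show (toUnit (VecGrp.pt K K)).left ≫ x.left = x.left
  rw [show (toUnit (VecGrp.pt K K)).left = 𝟙 _ from ?_, Category.id_comp]
  refine (Category.comp_id _).symm.trans ((Over.w (toUnit (VecGrp.pt K K))).trans ?_)
  show Spec.map (CommRingCat.ofHom (algebraMap K K)) = 𝟙 _
  rw [show CommRingCat.ofHom (algebraMap K K) = 𝟙 _ from rfl, Spec.map_id]

theorem gpt_injective {G : Over (Spec (CommRingCat.of K))}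
    {x y : 𝟙_ (Over (Spec (CommRingCat.of K))) ⟶ G} (h : TorPts21.gpt x = TorPts21.gpt y) : x = y := by
  refine Over.OverMorphism.ext ?_
  rw [← gpt_left x, h, gpt_left]

variable [Finite k] [IsAlgClosed K] [Algebra.IsAlgebraic k K]

set_option maxHeartbeats 1000000 in
/-- A smooth closed subgroup of the base change whose points are stable under the Frobenius is defined over the
finite field. -/
theorem exists_descend {G : Over (Spec (CommRingCat.of k))} [GrpObj G] [IsAffine G.left] [Smooth G.hom]
    {F : G ⟶ G} (hF : IsFrob F) {W : Over (Spec (CommRingCat.of K))} [GrpObj W] (w : W ⟶ Red.bc (str k K) G)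
    [IsMonHom w] [IsClosedImmersion w.left] [Smooth W.hom]
    (hstab : ∀ x : 𝟙_ (Over (Spec (CommRingCat.of K))) ⟶ W,
      ∃ y, y ≫ w = x ≫ w ≫ (Over.pullback (str k K)).map F) :
    ∃ (Z : Over (Spec (CommRingCat.of k))) (_ : GrpObj Z) (z : Z ⟶ G) (_ : IsMonHom z) (e : Red.bc (str k K) Z ≅ W),
      IsClosedImmersion z.left ∧ Smooth Z.hom ∧ IsMonHom e.hom ∧
        e.hom ≫ w = (Over.pullback (str k K)).map z := by
  let φ := str k K
  haveI : IsIntegralHom φ := isIntegralHom_str
  let π : (Red.bc φ G).left ⟶ G.left := pullback.fst G.hom φ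
  haveI : IsIntegralHom π := MorphismProperty.pullback_fst _ _ ‹_›
  haveI : LocallyOfFiniteType (Red.bc φ G).hom := MorphismProperty.pullback_snd (P := @LocallyOfFiniteType) _ _ inferInstance
  haveI : IsAffine (Red.bc φ G).left := BorelFix21.isAffine_bc φ G
  haveI : IsSeparated (Red.bc φ G).hom := inferInstance
  have hπ : IsClosedMap π.base := π.isClosedMap
  let T : Set G.left := Set.range (w.left ≫ π).base
  have hT : IsClosed T := by
    show IsClosed (Set.range (w.left ≫ π).base)
    rw [Scheme.Hom.comp_base, TopCat.coe_comp, Set.range_comp]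
    exact hπ _ w.left.isClosedEmbedding.isClosed_range
  haveI : LocallyOfFiniteType W.hom := by rw [← Over.w w]; infer_instance
  -- points of `W` are exactly the points over `T`
  have hmem : ∀ x : KPt K G, pimg x ∈ T ↔ ∃ y : 𝟙_ (Over (Spec (CommRingCat.of K))) ⟶ W, y ≫ w = x := by
    intro x
    refine ⟨fun ⟨v, hv⟩ => ?_, ?_⟩
    · haveI := isClosedImmersion_of_comp_eq_id (Red.bc φ G).hom x.left (Over.w x)
      have hxc : IsClosed ({x.left.base (IsLocalRing.closedPoint K)} : Set (Red.bc φ G).left) := by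
        have h : Set.range x.left.base = {x.left.base (IsLocalRing.closedPoint K)} :=
          Set.ext fun z => ⟨by rintro ⟨a, rfl⟩; exact congrArg _ (Subsingleton.elim (α := PrimeSpectrum K) _ _),
            fun h => ⟨_, (Set.mem_singleton_iff.1 h).symm⟩⟩
        rw [← h]
        exact x.left.isClosedEmbedding.isClosed_range
      have hpc : IsClosed ({pimg x} : Set G.left) := by
        have := hπ _ hxc
        rwa [Set.image_singleton, ← pimg_eq] at this
      obtain ⟨p, hp⟩ := BorelFix21.exists_pt_mem (G := W)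
        ((hpc.preimage (w.left ≫ π).continuous).isLocallyClosed) ⟨v, hv⟩
      obtain ⟨y, rfl⟩ := TorPts21.exists_gpt p
      refine mem_of_pimg_eq hF {x | ∃ y, y ≫ w = x} ?_ (y := y ≫ w) ⟨y, rfl⟩ ?_
      · rintro _ ⟨y', rfl⟩
        obtain ⟨y'', hy''⟩ := hstab y'
        exact ⟨y'', by rw [hy'', Category.assoc]⟩
      · rw [pimg_eq (y ≫ w)]
        have h2 : (w.left ≫ π).base ((TorPts21.gpt y).left.base (IsLocalRing.closedPoint K)) = pimg x := hp
        rw [gpt_left] at h2
        exact h2.symm
    · rintro ⟨y, rfl⟩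
      rw [pimg_eq]
      exact ⟨y.left.base (IsLocalRing.closedPoint K), rfl⟩
  let I := Scheme.IdealSheafData.vanishingIdeal (⟨T, hT⟩ : TopologicalSpace.Closeds G.left)
  let Z : Over (Spec (CommRingCat.of k)) := Over.mk (I.subschemeι ≫ G.hom)
  let z : Z ⟶ G := Over.homMk I.subschemeι rfl
  haveI : IsClosedImmersion z.left := inferInstanceAs (IsClosedImmersion I.subschemeι)
  haveI : IsReduced Z.left := RedSepLib.isReduced_vanishingIdeal_subscheme _
  haveI : LocallyOfFiniteType Z.hom := inferInstanceAs (LocallyOfFiniteType (I.subschemeι ≫ G.hom))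
  haveI : QuasiCompact Z.hom := inferInstanceAs (QuasiCompact (I.subschemeι ≫ G.hom))
  haveI : IsAffine Z.left := isAffine_of_isAffineHom z.left
  haveI : Mono z := Over.mono_of_mono_left z
  have hrange : Set.range z.left.base = T := by
    show Set.range I.subschemeι = T
    rw [Scheme.IdealSheafData.range_subschemeι]
    simp [I]
  have hlift : ∀ {V : Over (Spec (CommRingCat.of k))} [IsReduced V.left] [LocallyOfFiniteType V.hom] (g : V ⟶ G),
      (∀ x : KPt K V, pimg (x ≫ (Over.pullback φ).map g) ∈ T) → ∃ l : V ⟶ Z, l ≫ z = g := by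
    intro V _ _ g hg
    haveI : JacobsonSpace V.left := LocallyOfFiniteType.jacobsonSpace V.hom
    have hsub : Set.range g.left ⊆ Set.range z.left := by
      rw [hrange]
      rintro _ ⟨v, rfl⟩
      have hc : IsClosed (g.left ⁻¹' T) := hT.preimage g.left.continuous
      have hcp : closedPoints V.left ⊆ g.left ⁻¹' T := fun v hv => by
        obtain ⟨x, hx⟩ := exists_kpt (K := K) (hv : IsClosed ({v} : Set V.left)).isLocallyClosed ⟨v, rfl⟩
        have h1 := hg x
        rw [pimg_comp, Set.mem_singleton_iff.1 hx] at h1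
        exact h1
      exact (closure_minimal hcp hc) (by rw [closure_closedPoints]; trivial)
    obtain ⟨l, hl⟩ := RedSepLib.exists_lift_of_range_subset g.left z.left hsub
    exact ⟨Over.homMk l (by rw [← Over.w z, reassoc_of% hl, Over.w]), Over.OverMorphism.ext hl⟩
  have hptZ : ∀ {V : Over (Spec (CommRingCat.of k))} (x : KPt K V) (l : V ⟶ Z),
      ∃ y, y ≫ w = x ≫ (Over.pullback φ).map (l ≫ z) := fun x l => by
    refine (hmem _).1 ?_
    rw [pimg_comp, Over.comp_left, ← hrange]
    exact ⟨l.left.base (pimg x), rfl⟩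
  obtain ⟨iG, hiG⟩ : ∃ _ : GrpObj Z, IsMonHom z := by
    refine MTRigid29.exists_grpObj_of_subgroup z (fun X a b => ?_) ?_ (fun X a => ?_)
    · haveI : IsReduced (Z ⊗ Z).left := PerfProd19.isReduced_tensorObj Z Z
      haveI : LocallyOfFiniteType (Z ⊗ Z).hom :=
        inferInstanceAs (LocallyOfFiniteType (pullback.fst Z.hom Z.hom ≫ Z.hom))
      obtain ⟨m, hm⟩ := hlift ((fst Z Z ≫ z) * (snd Z Z ≫ z)) fun x => by
        obtain ⟨y₁, h₁⟩ := hptZ x (fst Z Z)
        obtain ⟨y₂, h₂⟩ := hptZ x (snd Z Z)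
        rw [comp_map_mul, ← h₁, ← h₂, ← MonObj.mul_comp]
        exact (hmem _).2 ⟨_, rfl⟩
      refine ⟨lift a b ≫ m, ?_⟩
      rw [Category.assoc, hm, MonObj.comp_mul, lift_fst_assoc, lift_snd_assoc]
    · haveI : IsReduced (𝟙_ (Over (Spec (CommRingCat.of k)))).left :=
        inferInstanceAs (IsReduced (Spec (CommRingCat.of k)))
      haveI : LocallyOfFiniteType (𝟙_ (Over (Spec (CommRingCat.of k)))).hom :=
        inferInstanceAs (LocallyOfFiniteType (𝟙 (Spec (CommRingCat.of k))))
      exact hlift _ fun x => by rw [comp_map_one, ← MonObj.one_comp w]; exact (hmem _).2 ⟨_, rfl⟩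
    · obtain ⟨v, hv⟩ := hlift z⁻¹ fun x => by
        obtain ⟨y, hy⟩ := hptZ x (𝟙 Z)
        rw [Category.id_comp] at hy
        rw [comp_map_inv, ← hy, ← GrpObj.inv_comp]
        exact (hmem _).2 ⟨_, rfl⟩
      exact ⟨a ≫ v, by rw [Category.assoc, hv, GrpObj.comp_inv]⟩
  letI := iG
  haveI := hiG
  haveI : Smooth Z.hom := GrpSmooth19.smooth_of_isReduced Z
  haveI : Smooth (Red.bc φ Z).hom := BorelFix21.smooth_bc φ Z
  haveI : IsAffine (Red.bc φ Z).left := BorelFix21.isAffine_bc φ Z
  haveI : IsAffine W.left := isAffine_of_isAffineHom w.left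
  haveI : IsClosedImmersion ((Over.pullback φ).map z).left := BorelFix21.isClosedImmersion_bc φ z
  haveI : Mono w := Over.mono_of_mono_left w
  haveI : Mono ((Over.pullback φ).map z) := Over.mono_of_mono_left _
  obtain ⟨e₁, he₁⟩ := TorPts21.exists_lift_of_pts w ((Over.pullback φ).map z) fun p => by
    obtain ⟨x, rfl⟩ := TorPts21.exists_gpt p
    obtain ⟨y, hy⟩ := hptZ x (𝟙 Z)
    rw [Category.id_comp] at hy
    exact ⟨TorPts21.gpt y, by simp only [TorPts21.gpt, Category.assoc, hy]⟩
  obtain ⟨e₂, he₂⟩ := TorPts21.exists_lift_of_pts ((Over.pullback φ).map z) w fun p => by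
    obtain ⟨y, rfl⟩ := TorPts21.exists_gpt p
    have h1 : Set.range (toK (y ≫ w)).left.base ⊆ Set.range z.left.base := by
      rintro _ ⟨a, rfl⟩
      rw [hrange, show a = IsLocalRing.closedPoint K from Subsingleton.elim (α := PrimeSpectrum K) _ _]
      exact (hmem _).2 ⟨y, rfl⟩
    haveI : IsReduced (VecGrp.pt k K).left := inferInstanceAs (IsReduced (Spec (CommRingCat.of K)))
    obtain ⟨l, hl⟩ := RedSepLib.exists_lift_of_range_subset (toK (y ≫ w)).left z.left h1
    obtain ⟨x, hx⟩ := toK_surjective (K := K) Z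
      (Over.homMk l (by rw [← Over.w z, reassoc_of% hl]; exact Over.w (toK (y ≫ w))))
    refine ⟨TorPts21.gpt x, ?_⟩
    rw [TorPts21.gpt, TorPts21.gpt, Category.assoc, Category.assoc]
    congr 1
    refine toK_injective G ?_
    rw [toK_comp, hx]
    exact Over.OverMorphism.ext hl
  let e : Red.bc φ Z ≅ W := ⟨e₁, e₂, (cancel_mono ((Over.pullback φ).map z)).1 (by
    rw [Category.assoc, he₂, he₁, Category.id_comp]), (cancel_mono w).1 (by
    rw [Category.assoc, he₁, he₂, Category.id_comp])⟩
  refine ⟨Z, iG, z, hiG, e, inferInstance, inferInstance, ?_, he₁⟩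
  exact BorelFix21.isMonHom_of_comp w e₁ (by rw [he₁]; infer_instance)

end Groth.Agent.FinBorel21
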